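import Cfsg.Agent.Lib.Chev.GTwoFour.MultRel

/-!
An upper bound for the Schur multiplier of `G₂(4)`: modulo one commutator of two lifts of short
root elements of the same root, every stem extension satisfies Steinberg's relations.
-/

set_option autoImplicit false
set_option maxRecDepth 100000

namespace CfsgLib.GTwoFour

open Cfsg.Lie CfsgLib.Chev Matrix
open scoped commutatorElement

universe u v

variable {F : Type u} [Field F] [Fintype F]

/-- The cover of `G₂` is the group itself. -/
theorem ker_stTheta_G2 :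
    (certG2.stTheta (K := F) (R := chevG2.steinbergRelsAB F) le_rfl
      (steinbergRelsAB_subset chevG2 F)).ker = ⊥ := by
  have hnb : Rel.Nbr tabG2 := by unfold Rel.Nbr; decide +kernel
  rw [certG2.ker_stTheta, Rel.ker_eq_center _ certG2 hnb]
  exact (certG2.relOf le_rfl (steinbergRelsAB_subset _ F)).center_eq_bot certG2 hnb
    ((certG2.relOf le_rfl (steinbergRelsAB_subset _ F)).mult_of_finite certG2 hnb)
    (U := matOf _ snfUG2) (Ui := matOf _ snfUiG2) (V := matOf _ snfVG2) (Vi := matOf _ snfViG2)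
    (by decide +kernel) (by decide +kernel)

/-- If an extension of `G₂` satisfies the relations modulo a part `N` of its kernel, the kernel
is `N`. -/
theorem ker_le_of_rel {Γ : Type v} [Group Γ] (Y : Ext chevG2 F Γ) (N : Subgroup Γ) [N.Normal]
    (hN : N ≤ Y.θ.ker)
    (hrel : ∀ Y' : Ext chevG2 F (Γ ⧸ N), (∀ a, Y'.θ (QuotientGroup.mk' N a) = Y.θ a) →
      ∃ L : Rel chevG2 tabG2 F (Γ ⧸ N), L.π = Y'.θ) : Y.θ.ker ≤ N := by
  let Y' : Ext chevG2 F (Γ ⧸ N) :=
    { θ := QuotientGroup.lift N Y.θ hN
      central := by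
        intro z
        refine QuotientGroup.induction_on z fun a ha => Subgroup.mem_center_iff.2 fun y => ?_
        refine QuotientGroup.induction_on y fun b => ?_
        exact congrArg (QuotientGroup.mk' N) (Subgroup.mem_center_iff.1 (Y.central ha) b)
      range_eq := by
        rw [← Y.range_eq]
        refine le_antisymm ?_ fun g ⟨a, ha⟩ => ⟨(a : Γ ⧸ N), ha⟩
        rintro _ ⟨z, rfl⟩
        exact QuotientGroup.induction_on z fun a => ⟨a, rfl⟩
      perfect := by
        rw [← Subgroup.map_top_of_surjective _ (QuotientGroup.mk'_surjective N), ← Y.perfect,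
          commutator_def, commutator_def, Subgroup.map_commutator,
          Subgroup.map_top_of_surjective _ (QuotientGroup.mk'_surjective N)] }
  obtain ⟨L, hL⟩ := hrel Y' fun a => rfl
  obtain ⟨ρ, hρ⟩ := L.exists_hom certG2
  set L₀ := certG2.relOf (R := chevG2.steinbergRelsAB F) le_rfl (steinbergRelsAB_subset chevG2 F)
  have hρ' : ∀ y, Y'.θ (ρ y) = L₀.π y := fun y => by rw [← hL]; exact hρ y
  have key : ∀ e, ∃ a ∈ ρ.range, Y'.θ e = Y'.θ a := fun e => by
    obtain ⟨y, hy⟩ := certG2.stTheta_surjective le_rfl (steinbergRelsAB_subset chevG2 F)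
      ⟨_, Y'.θ_mem e⟩
    exact ⟨ρ y, ⟨y, rfl⟩, ((congrArg Subtype.val hy).symm.trans (hρ' y).symm)⟩
  have htop : ρ.range = ⊤ := by
    rw [eq_top_iff, ← Y'.perfect, commutator_def, Subgroup.commutator_le]
    intro p _ q _
    obtain ⟨a, ha, ea⟩ := key p
    obtain ⟨b, hb, eb⟩ := key q
    rw [Y'.comm_congr ea eb, commutatorElement_def]
    exact mul_mem (mul_mem (mul_mem ha hb) (inv_mem ha)) (inv_mem hb)
  intro w hw
  obtain ⟨y, hy⟩ := MonoidHom.range_eq_top.1 htop (w : Γ ⧸ N)
  have h1 : L₀.π y = 1 := by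
    rw [← hρ', hy]
    exact hw
  have h2 : y = 1 := by
    have : y ∈ (certG2.stTheta (K := F) (R := chevG2.steinbergRelsAB F) le_rfl
        (steinbergRelsAB_subset chevG2 F)).ker := by rw [certG2.ker_stTheta]; exact h1
    rwa [ker_stTheta_G2 (F := F), Subgroup.mem_bot] at this
  rw [h2, map_one] at hy
  exact (QuotientGroup.eq_one_iff w).1 hy.symm

section Four

variable (hF : Fintype.card F = 4)
include hF

/-- `G₂(4)` is perfect. -/
theorem commutator_group_four : commutator ↥(chevG2.group F) = ⊤ := by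
  refine certG2.commutator_group_top (by unfold Rel.Nbr; decide +kernel) ?_
  obtain ⟨w, hw, -⟩ := exists_omega hF
  exact rel_perfect (by simp) (fun _ => ⟨(w : F), w.ne_zero, hw⟩) le_rfl (steinbergRelsAB_subset _ F)

/-- The four elements of the field. -/
lemma field_four {w : F} (h0 : w ≠ 0) (h1 : w ≠ 1) (t : F) :
    t = 0 ∨ t = 1 ∨ t = w ∨ t = 1 + w := by
  classical
  have := charTwo hF
  have hne : (1 : F) + w ≠ 0 := fun e => h1 (by
    rw [eq_neg_of_add_eq_zero_right e, CharTwo.neg_eq])
  have hs : ({0, 1, w, 1 + w} : Finset F).card = 4 := by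
    have hwn : (1 : F) + w ≠ w := fun e => one_ne_zero (α := F) (by linear_combination e)
    rw [Finset.card_insert_of_notMem (by simp [Ne.symm h0, Ne.symm hne]),
      Finset.card_insert_of_notMem (by simp [Ne.symm h1, h0]),
      Finset.card_insert_of_notMem (by simp [Ne.symm hwn]), Finset.card_singleton]
  have hu : ({0, 1, w, 1 + w} : Finset F) = Finset.univ :=
    Finset.eq_univ_of_card _ (by rw [hs, hF])
  have ht := Finset.mem_univ t
  rw [← hu] at ht
  simpa using ht

/-- The kernel of a stem extension is generated by an element of order dividing two. -/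
theorem ker_stem_four {Γ : Type v} [Group Γ] (σ : Γ →* ↥(chevG2.group F))
    (hσ : Cfsg.IsStemExtension σ) :
    ∃ z : σ.ker, z ^ 2 = 1 ∧ ∀ x : σ.ker, x ∈ Subgroup.zpowers z := by
  have := charTwo hF
  have hΓ := commutator_eq_top_of_stem hσ (commutator_group_four hF)
  let Y : Ext chevG2 F Γ :=
    { θ := (chevG2.group F).subtype.comp σ
      central := fun z hz => hσ.2.1 (MonoidHom.mem_ker.2 (Subtype.ext hz))
      range_eq := by
        rw [MonoidHom.range_comp, MonoidHom.range_eq_top.2 hσ.1, ← MonoidHom.range_eq_map,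
          Subgroup.range_subtype]
      perfect := hΓ }
  have h9 : (9 : ℕ) < tabG2.n := by rw [tab_facts.2.1]; norm_num
  have hc := Ext.commute_self (F := F) (h' := certG2) h9
  have hl := Y.br_X_add_left certG2 h9 h9 hc
  have hr := Y.br_X_add_right certG2 h9 h9 hc
  obtain ⟨w, hw, -⟩ := exists_omega hF
  set z₀ : Γ := Y.br (X chevG2 9 1) (X chevG2 9 (w : F)) with hz₀
  have hzθ : Y.θ z₀ = 1 :=
    Y.θ_br_eq_one (certG2.X_mem_group h9 _) (certG2.X_mem_group h9 _) (hc _ _)
  set N : Subgroup Γ := Subgroup.zpowers z₀ with hN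
  have hNk : N ≤ Y.θ.ker := by rw [hN, Subgroup.zpowers_le]; exact hzθ
  have : N.Normal := ⟨fun a ha g => by
    rw [Subgroup.mem_center_iff.1 (Y.central (hNk ha)) g, mul_inv_cancel_right]; exact ha⟩
  have hz2 : z₀ ^ 2 = 1 := by
    have h0 := hl 0 0 (w : F)
    rw [add_zero, left_eq_mul] at h0
    have h1 := kill_nsmul (f := fun t u => Y.br (X chevG2 9 t) (X chevG2 9 u)) hl 1 (w : F) 2
    rw [CharP.cast_eq_zero, zero_mul, h0] at h1
    exact h1.symm
  have hall : ∀ t u : F, Y.br (X chevG2 9 t) (X chevG2 9 u) ∈ N := by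
    have diag : ∀ t : F, Y.br (X chevG2 9 t) (X chevG2 9 t) ∈ N := fun t => by
      rw [show Y.br (X chevG2 9 t) (X chevG2 9 t) = 1 from commutatorElement_self _]
      exact one_mem N
    have one' : ∀ u, Y.br (X chevG2 9 (1 : F)) (X chevG2 9 u) ∈ N := by
      intro u
      rcases field_four hF w.ne_zero hw u with rfl | rfl | rfl | rfl
      · have h0 := hr 1 0 0
        rw [add_zero, left_eq_mul] at h0
        rw [h0]; exact one_mem N
      · exact diag 1
      · exact Subgroup.mem_zpowers z₀
      · rw [hr]; exact mul_mem (diag 1) (Subgroup.mem_zpowers z₀)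
    have w' : ∀ u, Y.br (X chevG2 9 (w : F)) (X chevG2 9 u) ∈ N := by
      intro u
      have hsw : Y.br (X chevG2 9 (w : F)) (X chevG2 9 1) ∈ N := by
        rw [Y.br_swap]; exact inv_mem (Subgroup.mem_zpowers z₀)
      rcases field_four hF w.ne_zero hw u with rfl | rfl | rfl | rfl
      · have h0 := hr (w : F) 0 0
        rw [add_zero, left_eq_mul] at h0
        rw [h0]; exact one_mem N
      · exact hsw
      · exact diag _
      · rw [hr]; exact mul_mem hsw (diag _)
    intro t u
    rcases field_four hF w.ne_zero hw t with rfl | rfl | rfl | rfl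
    · have h0 := hl 0 0 u
      rw [add_zero, left_eq_mul] at h0
      rw [h0]; exact one_mem N
    · exact one' u
    · exact w' u
    · rw [hl]; exact mul_mem (one' u) (w' u)
  have hker : Y.θ.ker ≤ N := ker_le_of_rel Y N hNk fun Y' hY' => by
    refine rel_of_short hF Y' fun t u => ?_
    rw [Y'.br_eq (a := QuotientGroup.mk' N (Y.lft (X chevG2 9 t)))
      (b := QuotientGroup.mk' N (Y.lft (X chevG2 9 u)))
      ((hY' _).trans (Y.θ_lft (certG2.X_mem_group h9 _)))
      ((hY' _).trans (Y.θ_lft (certG2.X_mem_group h9 _))),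
      ← map_commutatorElement]
    exact (QuotientGroup.eq_one_iff _).2 (hall t u)
  refine ⟨⟨z₀, MonoidHom.mem_ker.2 (Subtype.ext hzθ)⟩, Subtype.ext hz2, fun x => ?_⟩
  obtain ⟨k, hk⟩ := Subgroup.mem_zpowers_iff.1
    (hker (x := x.1) (congrArg Subtype.val (x.2 : σ x.1 = 1)))
  exact Subgroup.mem_zpowers_iff.2 ⟨k, Subtype.ext hk⟩

end Four

end CfsgLib.GTwoFour
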