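import Cfsg.Agent.Lib.Chev.GTwoFour.CoverPerm
import Cfsg.Agent.Lib.Chev.GTwoFour.MultBound
import Mathlib.GroupTheory.SpecificGroups.Cyclic

/-!
The double cover of `G₂(4)` built from the monomial permutations of 8064 states.
-/

set_option autoImplicit false
set_option maxRecDepth 100000

namespace CfsgLib.GTwoFour

open Cfsg.Lie CfsgLib.Chev
open scoped commutatorElement

universe u

variable {K : Type u} [Field K]

/-- The field element with a code. -/
def dec (w : K) : Fin 4 → K := ![0, 1, w, 1 + w]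

section

variable [Fintype K] (hF : Fintype.card K = 4) {w : K} (h0 : w ≠ 0) (h1 : w ≠ 1)
include hF h0 h1

lemma dec_bijective : Function.Bijective (dec w) := by
  have hs : Function.Surjective (dec w) := fun t => by
    rcases field_four hF h0 h1 t with rfl | rfl | rfl | rfl
    exacts [⟨0, rfl⟩, ⟨1, rfl⟩, ⟨2, rfl⟩, ⟨3, rfl⟩]
  exact (Fintype.bijective_iff_surjective_and_card _).2 ⟨hs, by rw [Fintype.card_fin, hF]⟩

omit h0 h1 in
lemma dec_add (a b : Fin 4) : dec w (addFour a b) = dec w a + dec w b := by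
  have := charTwo hF
  have h2 : (2 : K) = 0 := CharTwo.two_eq_zero
  rcases fin_four_cases a with rfl | rfl | rfl | rfl <;>
    rcases fin_four_cases b with rfl | rfl | rfl | rfl <;>
    simp [dec, addFour] <;> grind

lemma omega_sq : w * w = 1 + w := by
  have := charTwo hF
  have h2 : (2 : K) = 0 := CharTwo.two_eq_zero
  rcases field_four hF h0 h1 (w * w) with e | e | e | e
  · exact absurd (mul_self_eq_zero.1 e) h0
  · exfalso
    rcases mul_self_eq_one_iff.1 e with e' | e'
    · exact h1 e'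
    · exact h1 (by rw [e', CharTwo.neg_eq])
  · exact absurd (mul_left_cancel₀ h0 (e.trans (mul_one w).symm)) h1
  · exact e

lemma dec_mul (a b : Fin 4) : dec w (mulFour a b) = dec w a * dec w b := by
  have := charTwo hF
  have h2 : (2 : K) = 0 := CharTwo.two_eq_zero
  have hw := omega_sq hF h0 h1
  rcases fin_four_cases a with rfl | rfl | rfl | rfl <;>
    rcases fin_four_cases b with rfl | rfl | rfl | rfl <;>
    simp [dec, mulFour] <;> grind

lemma dec_pow (a : Fin 4) : ∀ n, dec w (powFour a n) = dec w a ^ n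
  | 0 => by rw [pow_zero]; rfl
  | n + 1 => by rw [powFour, dec_mul hF h0 h1, dec_pow a n, pow_succ]

lemma dec_par (c : ℤ) (i j : ℕ) (t u : Fin 4) :
    dec w (parFour c i j t u) = (c : K) * (-dec w t) ^ i * dec w u ^ j := by
  have := charTwo hF
  rw [CharTwo.neg_eq]
  unfold parFour
  split
  next hc =>
    rw [show (c : K) = 0 from (CharP.intCast_eq_zero_iff K 2 c).2
      (Int.dvd_of_emod_eq_zero hc), zero_mul, zero_mul]
    rfl
  next hc =>
    have hc' : c = 2 * (c / 2) + 1 := by omega
    have h2 : (2 : K) = 0 := CharTwo.two_eq_zero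
    rw [dec_mul hF h0 h1, dec_pow hF h0 h1, dec_pow hF h0 h1, hc']
    push_cast
    rw [h2, zero_mul, zero_add, one_mul]

/-- The map of the Steinberg cover. -/
theorem exists_quoHom :
    ∃ f : chevG2.SteinbergCover K →* Mono ⧸ shiftGroup, ∀ (r : ℕ) (a : Fin 4), r < 12 →
      f (PresentedGroup.mk _ (chevG2.stX r (dec w a))) = quoGen r a := by
  have hn : tabG2.n = 12 := tab_facts.2.1
  let e : Fin 4 ≃ K := Equiv.ofBijective _ (dec_bijective hF h0 h1)
  have he : ∀ a, e a = dec w a := fun a => rfl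
  have he' : ∀ x, dec w (e.symm x) = x := fun x => e.apply_symm_apply x
  let g : Fin chevG2.nroots × K → Mono ⧸ shiftGroup := fun p => quoGen p.1.val (e.symm p.2)
  have hst : ∀ r, r < 12 → ∀ t, FreeGroup.lift g (chevG2.stX r t) = quoGen r (e.symm t) := by
    intro r hr t
    rw [ChevalleyDatum.stX, dif_pos (by rw [certG2.nroots_eq, hn]; exact hr),
      FreeGroup.lift_apply_of]
  have hadd : ∀ x y, e.symm (x + y) = addFour (e.symm x) (e.symm y) := fun x y => by
    apply e.injective
    rw [e.apply_symm_apply, he, dec_add hF, he', he']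
  have hrel : ∀ a ∈ chevG2.steinbergRelsAB K, FreeGroup.lift g a = 1 := by
    rintro a (⟨r, t₁, t₂, hr, rfl⟩ | ⟨r, s, t, u, hr, hs, hne, hneg, rfl⟩)
    · rw [certG2.nroots_eq, hn] at hr
      rw [map_mul, map_mul, map_inv, hst r hr, hst r hr, hst r hr, quoGen_add hr, hadd,
        mul_inv_cancel]
    · rw [certG2.nroots_eq, hn] at hr hs
      have hrn : r < tabG2.n := hn.symm ▸ hr
      have hsn : s < tabG2.n := hn.symm ▸ hs
      have := charTwo hF
      rw [certG2.neg_eq hrn] at hneg
      have hinv : (quoGen r (e.symm t))⁻¹ = quoGen r (e.symm t) := inv_eq_of_mul_eq_one_right (by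
        rw [quoGen_add hr, show ∀ x : Fin 4, addFour x x = 0 by decide, quoGen_zero hr])
      rw [map_mul, map_mul, map_mul, map_mul, map_inv, map_inv, map_inv, hst r hr, hst s hs,
        hinv, mul_inv_eq_one, mul_assoc (quoGen s (e.symm u))⁻¹,
        mul_assoc (quoGen s (e.symm u))⁻¹, quoRel_all hr hs hne hneg, inv_mul_cancel_left,
        ChevalleyDatum.stWord, map_list_prod, ChevalleyDatum.commWord,
        certG2.commTerms_eq hrn hsn, List.map_map, List.map_map]
      refine congrArg List.prod (List.map_congr_left fun c hc => ?_)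
      rw [Function.comp_apply, Function.comp_apply,
        hst _ (hn ▸ certG2.commTerms_lt hrn hsn hc)]
      congr 1
      apply e.injective
      rw [e.apply_symm_apply, he, dec_par hF h0 h1, he', he']
  refine ⟨PresentedGroup.toGroup hrel, fun r a hr => ?_⟩
  refine (hst r hr _).trans ?_
  rw [← he, e.symm_apply_apply]

end

/-- The double cover. -/
theorem exists_cover_four [Fintype K] (hF : Fintype.card K = 4) :
    ∃ (Γ : Type u) (_ : Group Γ) (_ : Finite Γ) (σ : Γ →* ↥(chevG2.group K)),
      Cfsg.IsStemExtension σ ∧ Nonempty (σ.ker ≃* Multiplicative (ZMod 2)) := by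
  obtain ⟨ω, hω, -⟩ := exists_omega hF
  set w : K := (ω : K)
  obtain ⟨f, hf⟩ := exists_quoHom hF (w := w) ω.ne_zero hω
  have hn : tabG2.n = 12 := tab_facts.2.1
  set θ := certG2.stTheta (K := K) (R := chevG2.steinbergRelsAB K) le_rfl
    (steinbergRelsAB_subset chevG2 K) with hθ
  have hθi : Function.Injective θ := θ.ker_eq_bot_iff.1 ker_stTheta_G2
  let eθ : chevG2.SteinbergCover K ≃* ↥(chevG2.group K) :=
    MulEquiv.ofBijective θ ⟨hθi, certG2.stTheta_surjective _ _⟩
  let φ : ↥(chevG2.group K) →* Mono ⧸ shiftGroup := f.comp eθ.symm.toMonoidHom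
  have h9 : (9 : ℕ) < tabG2.n := by rw [hn]; norm_num
  have hφ : ∀ a : Fin 4,
      φ ⟨X chevG2 9 (dec w a), certG2.X_mem_group h9 _⟩ = quoGen 9 a := by
    intro a
    have h1 : eθ (PresentedGroup.mk _ (chevG2.stX 9 (dec w a))) =
        ⟨X chevG2 9 (dec w a), certG2.X_mem_group h9 _⟩ :=
      Subtype.ext (Units.ext (by
        show ((θ _ : GL chevG2.Idx K) : Matrix chevG2.Idx chevG2.Idx K) = _
        rw [hθ, certG2.stTheta_x _ _ h9, certG2.coe_X]))
    show f (eθ.symm _) = _
    rw [← h1, eθ.symm_apply_apply, hf 9 a (by norm_num)]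
  let P : Subgroup (↥(chevG2.group K) × Mono) :=
    (φ.comp (MonoidHom.fst _ _)).eqLocus ((QuotientGroup.mk' shiftGroup).comp (MonoidHom.snd _ _))
  let σ : ↥P →* ↥(chevG2.group K) := (MonoidHom.fst _ _).comp P.subtype
  have hsurj : Function.Surjective σ := fun y => by
    obtain ⟨m, hm⟩ := QuotientGroup.mk'_surjective shiftGroup (φ y)
    exact ⟨⟨(y, m), hm.symm⟩, rfl⟩
  let A : Fin 4 → ↥P := fun a =>
    ⟨(⟨X chevG2 9 (dec w a), certG2.X_mem_group h9 _⟩, monoGen 9 a), hφ a⟩
  let Z : ↥P := ⟨(1, monoZ), by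
    show φ 1 = (monoZ : Mono)
    rw [map_one, eq_comm, QuotientGroup.eq_one_iff]
    exact Subgroup.mem_zpowers _⟩
  have hcomm : ⁅A 1, A 2⁆ = Z := by
    refine Subtype.ext (Prod.ext ?_ ?_)
    · show ⁅(⟨X chevG2 9 (dec w 1), certG2.X_mem_group h9 _⟩ : ↥(chevG2.group K)),
        (⟨X chevG2 9 (dec w 2), certG2.X_mem_group h9 _⟩ : ↥(chevG2.group K))⁆ = 1
      rw [commutatorElement_eq_one_iff_commute]
      exact Subtype.ext (Ext.commute_self (h' := certG2) h9 _ _)
    · show ⁅monoGen 9 1, monoGen 9 2⁆ = monoZ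
      have hok : ∀ g ∈ [(9, (1 : Fin 4)), (9, 2)], GenOK g.1 g.2 := by
        intro g hg
        simp only [List.mem_cons, List.not_mem_nil, or_false] at hg
        rcases hg with rfl | rfl <;> exact Or.inl (by norm_num)
      have hok' : ∀ g ∈ [(9, (2 : Fin 4)), (9, 1)], GenOK g.1 g.2 := by
        intro g hg
        simp only [List.mem_cons, List.not_mem_nil, or_false] at hg
        rcases hg with rfl | rfl <;> exact Or.inl (by norm_num)
      have h := eq_of_shift (d := 1) hok hok' (fun s hs => cEq_spec pairChk hs)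
      simp only [List.map_cons, List.map_nil, List.prod_cons, List.prod_nil, mul_one, pow_one] at h
      rw [commutatorElement_def, h]
      simp only [mul_assoc, mul_inv_cancel_left, mul_inv_cancel, mul_one]
  have hkerle : σ.ker ≤ Subgroup.zpowers Z := by
    intro p hp
    have hp1 : p.1.1 = 1 := hp
    have hp2 : φ p.1.1 = (p.1.2 : Mono) := p.2
    rw [hp1, map_one, eq_comm, QuotientGroup.eq_one_iff] at hp2
    obtain ⟨k, hk⟩ := Subgroup.mem_zpowers_iff.1 hp2
    refine Subgroup.mem_zpowers_iff.2 ⟨k, Subtype.ext (Prod.ext ?_ ?_)⟩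
    · rw [SubgroupClass.coe_zpow, Prod.pow_fst]
      show (1 : ↥(chevG2.group K)) ^ k = p.1.1
      rw [one_zpow, hp1]
    · rw [SubgroupClass.coe_zpow, Prod.pow_snd]
      exact hk
  have hker : σ.ker = Subgroup.zpowers Z := le_antisymm hkerle (by
    rw [Subgroup.zpowers_le]; rfl)
  have hstem : Cfsg.IsStemExtension σ := by
    refine ⟨hsurj, fun p hp => Subgroup.mem_center_iff.2 fun q => ?_, ?_⟩
    · have hZc : Z ∈ Subgroup.center ↥P := Subgroup.mem_center_iff.2 fun q =>
        Subtype.ext (Prod.ext ((mul_one _).trans (one_mul _).symm)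
          (Subgroup.mem_center_iff.1 monoZ_center q.1.2))
      exact Subgroup.mem_center_iff.1 (Subgroup.zpowers_le.2 hZc (hkerle hp)) q
    · refine hkerle.trans ?_
      rw [Subgroup.zpowers_le, ← hcomm]
      exact Subgroup.commutator_mem_commutator (Subgroup.mem_top _) (Subgroup.mem_top _)
  have hord : orderOf Z = 2 := by
    refine orderOf_eq_prime (Subtype.ext (Prod.ext (one_pow 2) ?_)) ?_
    · refine Subtype.ext (Equiv.ext fun s => Fin.ext ?_)
      show ((((shiftPerm ^ 2) ^ 2) s : St) : ℕ) = s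
      rw [← pow_mul, shiftPerm_pow]; simp only [cShift]; omega
    · intro h
      have := congrArg (fun p : ↥P => ((p.1.2.1 ⟨0, by norm_num⟩ : St) : ℕ)) h
      refine absurd this ?_
      show (((shiftPerm ^ 2) (⟨0, by norm_num⟩ : St) : St) : ℕ) ≠ 0
      rw [shiftPerm_pow]
      decide
  have hcard : Nat.card σ.ker = 2 := by rw [hker, Nat.card_zpowers, hord]
  refine ⟨↥P, inferInstance, inferInstance, σ, hstem, ⟨?_⟩⟩
  have : Fact (Nat.Prime 2) := ⟨Nat.prime_two⟩
  exact mulEquivOfPrimeCardEq hcard (by rw [Nat.card_congr Multiplicative.toAdd, Nat.card_zmod])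

end CfsgLib.GTwoFour
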