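import Cfsg.Agent.Lib.Chev.GTwoFour.CoverDefs

/-! Kernel checks of the double cover of `G₂(4)`: bounds and root groups. -/

set_option autoImplicit false
set_option maxRecDepth 100000

namespace CfsgLib.GTwoFour

theorem boundChk_0 : boundChk 0 = true := by decide +kernel
theorem boundChk_1 : boundChk 1 = true := by decide +kernel
theorem boundChk_2 : boundChk 2 = true := by decide +kernel
theorem boundChk_3 : boundChk 3 = true := by decide +kernel
theorem boundChk_4 : boundChk 4 = true := by decide +kernel
theorem boundChk_5 : boundChk 5 = true := by decide +kernel
theorem boundChk_6 : boundChk 6 = true := by decide +kernel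
theorem boundChk_7 : boundChk 7 = true := by decide +kernel
theorem boundChk_8 : boundChk 8 = true := by decide +kernel
theorem boundChk_9 : boundChk 9 = true := by decide +kernel
theorem boundChk_10 : boundChk 10 = true := by decide +kernel
theorem boundChk_11 : boundChk 11 = true := by decide +kernel
theorem boundChk_12 : boundChk 12 = true := by decide +kernel
theorem boundChk_13 : boundChk 13 = true := by decide +kernel
theorem addChk_0 : addChk 0 = true := by decide +kernel
theorem addChk_1 : addChk 1 = true := by decide +kernel
theorem addChk_2 : addChk 2 = true := by decide +kernel
theorem addChk_3 : addChk 3 = true := by decide +kernel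
theorem addChk_4 : addChk 4 = true := by decide +kernel
theorem addChk_5 : addChk 5 = true := by decide +kernel
theorem addChk_6 : addChk 6 = true := by decide +kernel
theorem addChk_7 : addChk 7 = true := by decide +kernel
theorem addChk_8 : addChk 8 = true := by decide +kernel
theorem addChk_9 : addChk 9 = true := by decide +kernel
theorem addChk_10 : addChk 10 = true := by decide +kernel
theorem addChk_11 : addChk 11 = true := by decide +kernel
theorem weylSq_0 : cSame [(12, 1), (12, 1)] [] = true := by decide +kernel
theorem weylSq_1 : cSame [(13, 1), (13, 1)] [] = true := by decide +kernel
theorem pairChk : cEq 2 [(9, 1), (9, 2)] [(9, 2), (9, 1)] = true := by decide +kernel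

end CfsgLib.GTwoFour
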