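import Cfsg.Agent.Lib.Chev.GTwoFour.CoverDefs

/-! Kernel checks of the double cover of `G₂(4)`: the Weyl elements. -/

set_option autoImplicit false
set_option maxRecDepth 100000

namespace CfsgLib.GTwoFour

theorem weylChk_0_0 : weylChk 0 0 = true := by decide +kernel
theorem weylChk_0_1 : weylChk 0 1 = true := by decide +kernel
theorem weylChk_0_2 : weylChk 0 2 = true := by decide +kernel
theorem weylChk_0_3 : weylChk 0 3 = true := by decide +kernel
theorem weylChk_0_4 : weylChk 0 4 = true := by decide +kernel
theorem weylChk_0_5 : weylChk 0 5 = true := by decide +kernel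
theorem weylChk_0_6 : weylChk 0 6 = true := by decide +kernel
theorem weylChk_0_7 : weylChk 0 7 = true := by decide +kernel
theorem weylChk_0_8 : weylChk 0 8 = true := by decide +kernel
theorem weylChk_0_9 : weylChk 0 9 = true := by decide +kernel
theorem weylChk_0_10 : weylChk 0 10 = true := by decide +kernel
theorem weylChk_0_11 : weylChk 0 11 = true := by decide +kernel
theorem weylChk_1_0 : weylChk 1 0 = true := by decide +kernel
theorem weylChk_1_1 : weylChk 1 1 = true := by decide +kernel
theorem weylChk_1_2 : weylChk 1 2 = true := by decide +kernel
theorem weylChk_1_3 : weylChk 1 3 = true := by decide +kernel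
theorem weylChk_1_4 : weylChk 1 4 = true := by decide +kernel
theorem weylChk_1_5 : weylChk 1 5 = true := by decide +kernel
theorem weylChk_1_6 : weylChk 1 6 = true := by decide +kernel
theorem weylChk_1_7 : weylChk 1 7 = true := by decide +kernel
theorem weylChk_1_8 : weylChk 1 8 = true := by decide +kernel
theorem weylChk_1_9 : weylChk 1 9 = true := by decide +kernel
theorem weylChk_1_10 : weylChk 1 10 = true := by decide +kernel
theorem weylChk_1_11 : weylChk 1 11 = true := by decide +kernel

end CfsgLib.GTwoFour
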