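import Cfsg.Agent.Lib.Chev.GTwoFour.CoverDefs

/-! Kernel checks of the double cover of `G₂(4)`: the pairs at a short root. -/

set_option autoImplicit false
set_option maxRecDepth 100000

namespace CfsgLib.GTwoFour

theorem relChk_9_0 : relChk 9 0 = true := by decide +kernel
theorem relChk_9_3 : relChk 9 3 = true := by decide +kernel
theorem relChk_9_5 : relChk 9 5 = true := by decide +kernel
theorem relChk_9_7 : relChk 9 7 = true := by decide +kernel
theorem relChk_9_10 : relChk 9 10 = true := by decide +kernel

end CfsgLib.GTwoFour
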