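import Cfsg.Agent.Lib.Chev.GTwoFour.CoverDefs

/-! Kernel checks of the double cover of `G₂(4)`: the pairs at a long root. -/

set_option autoImplicit false
set_option maxRecDepth 100000

namespace CfsgLib.GTwoFour

theorem relChk_11_1 : relChk 11 1 = true := by decide +kernel
theorem relChk_11_2 : relChk 11 2 = true := by decide +kernel
theorem relChk_11_4 : relChk 11 4 = true := by decide +kernel
theorem relChk_11_6 : relChk 11 6 = true := by decide +kernel
theorem relChk_11_8 : relChk 11 8 = true := by decide +kernel

end CfsgLib.GTwoFour
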