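import Cfsg.Agent.Lib.Chev.GTwoFour.CoverData
import Cfsg.Agent.Lib.Chev.CertG2

/-!
Definitions for the kernel checks of the monomial double cover of `G₂(4)`: the states are
`4 * i + k`, a point with a fourth root of unity, and the kernel of the cover is the shift by 2.
-/

set_option autoImplicit false
set_option maxRecDepth 100000

namespace CfsgLib.GTwoFour

open CfsgLib.Chev

/-- The shift of a fibre. -/
def cShift (d s : ℕ) : ℕ := 4 * (s / 4) + (s % 4 + d) % 4

/-- One table applied to a state. -/
noncomputable def cStep (P s : ℕ) : ℕ :=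
  cShift (s % 4) (Nat.land (Nat.shiftRight P (Nat.mul 16 (s / 4))) 65535)

/-- `cStep`, evaluating each argument once. -/
noncomputable def cStepK (P s : ℕ) (f : ℕ → Bool) : Bool :=
  force s fun a =>
    force (Nat.land (Nat.shiftRight P (Nat.mul 16 (a / 4))) 65535) fun e =>
      force (cShift (a % 4) e) f

lemma cStepK_eq (P s : ℕ) (f : ℕ → Bool) : cStepK P s f = f (cStep P s) := by
  simp only [cStepK, force_eq, cStep]

/-- A word of tables applied to a state. -/
noncomputable def cAct : List (ℕ × ℕ) → ℕ → ℕ
  | [], s => s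
  | g :: w, s => cond (Nat.beq g.2 0) (cAct w s) (cStep (coverRow g.1 g.2) (cAct w s))

/-- `cAct`, evaluating each step once. -/
noncomputable def cActK : List (ℕ × ℕ) → ℕ → (ℕ → Bool) → Bool
  | [], s, f => f s
  | g :: w, s, f => cActK w s fun a =>
      cond (Nat.beq g.2 0) (f a) (cStepK (coverRow g.1 g.2) a f)

lemma cActK_eq : ∀ (w : List (ℕ × ℕ)) (s : ℕ) (f : ℕ → Bool), cActK w s f = f (cAct w s)
  | [], _, _ => rfl
  | g :: w, s, f => by
    show cActK w s _ = _
    rw [cActK_eq w s, cStepK_eq]
    show _ = f (cond _ _ _)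
    cases Nat.beq g.2 0 <;> rfl

/-- All the base states agree up to the shift `d`. -/
noncomputable def cEq (d : ℕ) (l r : List (ℕ × ℕ)) : Bool :=
  allBelow 2016 fun i =>
    cActK l (4 * i) fun a => cActK r (4 * i) fun b => force b fun b => Nat.beq a (cShift d b)

/-- The two words agree modulo the kernel. -/
noncomputable def cSame (l r : List (ℕ × ℕ)) : Bool := cEq 0 l r || cEq 2 l r

/-- All table values are states. -/
noncomputable def boundChk (r : ℕ) : Bool :=
  [1, 2, 3].all fun t => allBelow 2016 fun i =>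
    Nat.blt (Nat.land (Nat.shiftRight (coverRow r t) (Nat.mul 16 i)) 65535) 8064

/-! ### The field with four elements, as `0, 1, w, w + 1` -/

/-- The product. -/
def mulFour (a b : Fin 4) : Fin 4 :=
  ![![0, 0, 0, 0], ![0, 1, 2, 3], ![0, 2, 3, 1], ![0, 3, 1, 2]] a b

/-- A power. -/
def powFour (a : Fin 4) : ℕ → Fin 4
  | 0 => 1
  | n + 1 => mulFour (powFour a n) a

/-- A parameter of the commutator formula. -/
def parFour (c : ℤ) (i j : ℕ) (t u : Fin 4) : Fin 4 :=
  if c % 2 = 0 then 0 else mulFour (powFour t i) (powFour u j)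

/-- The right hand side of a relation. -/
noncomputable def cTerms (r s : ℕ) (t u : Fin 4) : List (ℕ × Fin 4) :=
  (tabG2.commTerms r s).map fun c => (c.1, parFour c.2.1 c.2.2.1 c.2.2.2 t u)

/-- A word with parameters in the field. -/
def cWord (w : List (ℕ × Fin 4)) : List (ℕ × ℕ) := w.map fun g => (g.1, g.2.val)

/-- The relation of a representative pair. -/
noncomputable def relChk (r s : ℕ) : Bool :=
  [1, 2, 3].all fun t : Fin 4 => [1, 2, 3].all fun u : Fin 4 =>
    cSame (cWord [(r, t), (s, u), (r, t)]) (cWord ((s, u) :: cTerms r s t u))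

/-- Each root group is elementary abelian modulo the kernel. -/
noncomputable def addChk (r : ℕ) : Bool :=
  cSame [(r, 1), (r, 1)] [] && cSame [(r, 2), (r, 2)] [] && cSame [(r, 3), (r, 3)] [] &&
    cSame [(r, 1), (r, 2)] [(r, 3)]

/-- The Weyl elements permute the root groups modulo the kernel. -/
noncomputable def weylChk (i r : ℕ) : Bool :=
  [1, 2, 3].all fun t =>
    cSame [(12 + i, 1), (r, t)] [(tabG2.refl i r, t), (12 + i, 1)]

end CfsgLib.GTwoFour
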