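import Cfsg.Agent.Lib.Chev.GTwoFour.CoverChkA
import Cfsg.Agent.Lib.Chev.GTwoFour.CoverChkB
import Cfsg.Agent.Lib.Chev.GTwoFour.CoverChkC
import Cfsg.Agent.Lib.Chev.GTwoFour.CoverChkD
import Cfsg.Agent.Lib.Chev.StExt

/-!
The monomial double cover of `G₂(4)` satisfies Steinberg's relations modulo the shift by 2.
-/

set_option autoImplicit false
set_option maxRecDepth 100000

namespace CfsgLib.GTwoFour

open CfsgLib.Chev

lemma boundChk_all {r : ℕ} (hr : r < 14) : boundChk r = true := by
  interval_cases r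
  exacts [boundChk_0, boundChk_1, boundChk_2, boundChk_3, boundChk_4, boundChk_5, boundChk_6,
    boundChk_7, boundChk_8, boundChk_9, boundChk_10, boundChk_11, boundChk_12, boundChk_13]

lemma addChk_all {r : ℕ} (hr : r < 12) : addChk r = true := by
  interval_cases r
  exacts [addChk_0, addChk_1, addChk_2, addChk_3, addChk_4, addChk_5, addChk_6, addChk_7,
    addChk_8, addChk_9, addChk_10, addChk_11]

lemma weylChk_all {i r : ℕ} (hi : i < 2) (hr : r < 12) : weylChk i r = true := by
  interval_cases i <;> interval_cases r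
  exacts [weylChk_0_0, weylChk_0_1, weylChk_0_2, weylChk_0_3, weylChk_0_4, weylChk_0_5,
    weylChk_0_6, weylChk_0_7, weylChk_0_8, weylChk_0_9, weylChk_0_10, weylChk_0_11,
    weylChk_1_0, weylChk_1_1, weylChk_1_2, weylChk_1_3, weylChk_1_4, weylChk_1_5,
    weylChk_1_6, weylChk_1_7, weylChk_1_8, weylChk_1_9, weylChk_1_10, weylChk_1_11]

/-! ### The permutations -/

lemma cStep_shift (P k s : ℕ) : cStep P (cShift k s) = cShift k (cStep P s) := by
  have h1 : cShift k s / 4 = s / 4 := by simp only [cShift]; omega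
  unfold cStep
  rw [h1]
  simp only [cShift]
  omega

lemma cAct_shift : ∀ (w : List (ℕ × ℕ)) (k s : ℕ), cAct w (cShift k s) = cShift k (cAct w s)
  | [], _, _ => rfl
  | g :: w, k, s => by
    show cond _ _ _ = cShift k (cond _ _ _)
    rw [cAct_shift w]
    cases Nat.beq g.2 0
    · exact cStep_shift _ _ _
    · rfl

/-- The shift of a `cEq` extends to all states. -/
lemma cEq_spec {d : ℕ} {l r : List (ℕ × ℕ)} (h : cEq d l r = true) {s : ℕ} (hs : s < 8064) :
    cAct l s = cShift d (cAct r s) := by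
  have h1 := allBelow_eq_true h (s / 4) (by omega)
  rw [cActK_eq, cActK_eq, force_eq, Nat.beq_eq] at h1
  have e : s = cShift (s % 4) (4 * (s / 4)) := by simp only [cShift]; omega
  rw [e, cAct_shift, cAct_shift, h1]
  simp only [cShift]; omega

lemma cSame_spec {l r : List (ℕ × ℕ)} (h : cSame l r = true) :
    ∃ d, (d = 0 ∨ d = 2) ∧ ∀ s < 8064, cAct l s = cShift d (cAct r s) := by
  rcases Bool.or_eq_true_iff.1 h with h | h
  · exact ⟨0, Or.inl rfl, fun s hs => cEq_spec h hs⟩
  · exact ⟨2, Or.inr rfl, fun s hs => cEq_spec h hs⟩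

lemma fin_four_cases : ∀ t : Fin 4, t = 0 ∨ t = 1 ∨ t = 2 ∨ t = 3 := by decide

lemma row_lt {g : ℕ} (hg : g < 14) {t : Fin 4} (ht : t ≠ 0) (s : ℕ) (hs : s < 8064) :
    cStep (coverRow g t.val) s < 8064 := by
  have h := boundChk_all hg
  simp only [boundChk, List.all_eq_true] at h
  have hm : (t : ℕ) ∈ [1, 2, 3] := by
    rcases fin_four_cases t with rfl | rfl | rfl | rfl <;> simp_all
  have h1 := allBelow_eq_true (h _ hm) (s / 4) (by omega)
  rw [Nat.blt_eq] at h1
  simp only [cStep, cShift]
  omega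

/-- The action of a generator on the states. -/
noncomputable def cGen (g : ℕ) (t : Fin 4) (s : ℕ) : ℕ := cAct [(g, t.val)] s

lemma cGen_lt {g : ℕ} (hg : g < 14) (t : Fin 4) {s : ℕ} (hs : s < 8064) : cGen g t s < 8064 := by
  by_cases ht : t = 0
  · subst ht; exact hs
  · have : Nat.beq t.val 0 = false := by
      rw [Bool.eq_false_iff, ne_eq, Nat.beq_eq]
      exact fun e => ht (Fin.ext e)
    show cond (Nat.beq t.val 0) s (cStep (coverRow g t.val) s) < 8064
    rw [this]
    exact row_lt hg ht s hs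

/-- The states. -/
abbrev St : Type := Fin 8064

lemma cShift_lt (d : ℕ) {s : ℕ} (hs : s < 8064) : cShift d s < 8064 := by
  simp only [cShift]; omega

/-- The generator of the fibre shifts. -/
noncomputable def shiftPerm : Equiv.Perm St where
  toFun s := ⟨cShift 1 s, cShift_lt 1 s.isLt⟩
  invFun s := ⟨cShift 3 s, cShift_lt 3 s.isLt⟩
  left_inv s := Fin.ext (by simp only [cShift]; omega)
  right_inv s := Fin.ext (by simp only [cShift]; omega)

lemma shiftPerm_pow (d : ℕ) (s : St) : (((shiftPerm ^ d) s : St) : ℕ) = cShift d s := by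
  induction d with
  | zero => simp only [pow_zero, Equiv.Perm.coe_one, id_eq, cShift]; omega
  | succ d ih =>
    rw [pow_succ', Equiv.Perm.mul_apply]
    show cShift 1 ((shiftPerm ^ d) s : St) = _
    rw [ih]
    simp only [cShift]; omega

lemma square_chk {g : ℕ} (hg : g < 12) (t : Fin 4) (ht : t ≠ 0) :
    cSame [(g, t.val), (g, t.val)] [] = true := by
  have h := addChk_all hg
  simp only [addChk, Bool.and_eq_true] at h
  rcases fin_four_cases t with rfl | rfl | rfl | rfl
  exacts [absurd rfl ht, h.1.1.1, h.1.1.2, h.1.2]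

/-- The index of a generator: a root parameter or a Weyl element. -/
def GenOK (g : ℕ) (t : Fin 4) : Prop := g < 12 ∨ ((g = 12 ∨ g = 13) ∧ t = 1)

lemma cGen_bijective {g : ℕ} {t : Fin 4} (hg : GenOK g t) :
    ∃ σ : Equiv.Perm St, ∀ s : St, ((σ s : St) : ℕ) = cGen g t s := by
  have hlt : g < 14 := by rcases hg with h | ⟨h | h, -⟩ <;> omega
  let f : St → St := fun s => ⟨cGen g t s, cGen_lt hlt t s.isLt⟩
  suffices hinj : Function.Injective f from
    ⟨Equiv.ofBijective f ⟨hinj, Finite.injective_iff_surjective.1 hinj⟩, fun s => rfl⟩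
  intro a b e
  by_cases ht : t = 0
  · subst ht; exact Fin.ext (congrArg Fin.val e :)
  have hsq : cSame [(g, t.val), (g, t.val)] [] = true := by
    rcases hg with h | ⟨h | h, h1⟩
    · exact square_chk h t ht
    · subst h h1; exact weylSq_0
    · subst h h1; exact weylSq_1
  obtain ⟨d, -, hd⟩ := cSame_spec hsq
  have key : ∀ s : St, cGen g t (cGen g t s) = cShift d s := fun s => by
    have hb : Nat.beq t.val 0 = false := by
      rw [Bool.eq_false_iff, ne_eq, Nat.beq_eq]
      exact fun e => ht (Fin.ext e)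
    have := hd s s.isLt
    simp only [cAct, hb, cond_false] at this
    simp only [cGen, cAct, hb, cond_false]
    exact this
  have e2 := congrArg (cGen g t) (congrArg Fin.val e : cGen g t a = cGen g t b)
  rw [key, key] at e2
  apply Fin.ext
  simp only [cShift] at e2
  omega

/-- The group of permutations commuting with the shift. -/
abbrev Mono : Subgroup (Equiv.Perm St) := Subgroup.centralizer {shiftPerm}

open Classical in
/-- The lifts of the root elements and of the Weyl elements. -/
noncomputable def monoGen (g : ℕ) (t : Fin 4) : Mono :=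
  if hg : GenOK g t then
    ⟨(cGen_bijective hg).choose, by
      rw [Subgroup.mem_centralizer_singleton_iff]
      refine Equiv.ext fun s => Fin.ext ?_
      rw [Equiv.Perm.mul_apply, Equiv.Perm.mul_apply, (cGen_bijective hg).choose_spec]
      show cGen g t (cShift 1 s) = cShift 1 ((cGen_bijective hg).choose s : St)
      rw [(cGen_bijective hg).choose_spec]
      exact cAct_shift _ 1 s⟩
  else 1

lemma monoGen_val {g : ℕ} {t : Fin 4} (hg : GenOK g t) (s : St) :
    ((((monoGen g t : Mono) : Equiv.Perm St) s : St) : ℕ) = cGen g t s := by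
  rw [monoGen, dif_pos hg]
  exact (cGen_bijective hg).choose_spec s

/-- The generator of the kernel. -/
noncomputable def monoZ : Mono :=
  ⟨shiftPerm ^ 2, pow_mem (Subgroup.mem_centralizer_singleton_iff.2 rfl) 2⟩

lemma monoZ_center : monoZ ∈ Subgroup.center Mono := by
  refine Subgroup.mem_center_iff.2 fun g => Subtype.ext ?_
  exact (Commute.pow_right (Subgroup.mem_centralizer_singleton_iff.1 g.2) 2).eq

/-- The kernel of the cover. -/
noncomputable abbrev shiftGroup : Subgroup Mono := Subgroup.zpowers monoZ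

instance : (shiftGroup).Normal := ⟨fun a ha g => by
  have hc : a ∈ Subgroup.center Mono := (Subgroup.zpowers_le.2 monoZ_center) ha
  rw [Subgroup.mem_center_iff.1 hc g, mul_inv_cancel_right]
  exact ha⟩

/-- The lifts modulo the kernel. -/
noncomputable def quoGen (g : ℕ) (t : Fin 4) : Mono ⧸ shiftGroup := (monoGen g t : Mono)

lemma cAct_word : ∀ w : List (ℕ × Fin 4), (∀ g ∈ w, GenOK g.1 g.2) → ∀ s : St,
    cAct (cWord w) s = ((((w.map fun g => monoGen g.1 g.2).prod : Mono) : Equiv.Perm St) s : St) := by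
  intro w
  induction w with
  | nil => intro _ s; rfl
  | cons g w ih =>
    intro hw s
    rw [List.map_cons, List.prod_cons, Subgroup.coe_mul, Equiv.Perm.mul_apply,
      monoGen_val (hw g List.mem_cons_self), ← ih (fun a ha => hw a (List.mem_cons_of_mem _ ha))]
    rfl

/-- A check gives an identity of permutations. -/
lemma eq_of_shift {d : ℕ} {l r : List (ℕ × Fin 4)} (hl : ∀ g ∈ l, GenOK g.1 g.2)
    (hr : ∀ g ∈ r, GenOK g.1 g.2)
    (h : ∀ s < 8064, cAct (cWord l) s = cShift (2 * d) (cAct (cWord r) s)) :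
    (l.map fun g => monoGen g.1 g.2).prod = monoZ ^ d * (r.map fun g => monoGen g.1 g.2).prod := by
  refine Subtype.ext (Equiv.ext fun s => Fin.ext ?_)
  rw [← cAct_word l hl s, h s s.isLt, cAct_word r hr s, Subgroup.coe_mul, Equiv.Perm.mul_apply,
    SubmonoidClass.coe_pow]
  show _ = ((((shiftPerm ^ 2) ^ d) _ : St) : ℕ)
  rw [← pow_mul, shiftPerm_pow]

/-- A check gives an identity modulo the kernel. -/
lemma quo_eq_of_cSame {l r : List (ℕ × Fin 4)} (hl : ∀ g ∈ l, GenOK g.1 g.2)
    (hr : ∀ g ∈ r, GenOK g.1 g.2) (h : cSame (cWord l) (cWord r) = true) :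
    (l.map fun g => quoGen g.1 g.2).prod = (r.map fun g => quoGen g.1 g.2).prod := by
  have conv : ∀ w : List (ℕ × Fin 4), (w.map fun g => quoGen g.1 g.2).prod =
      QuotientGroup.mk' shiftGroup (w.map fun g => monoGen g.1 g.2).prod := fun w => by
    rw [map_list_prod, List.map_map]; rfl
  obtain ⟨d, hd, hd'⟩ := cSame_spec h
  have e := eq_of_shift (d := d / 2) hl hr (by
    rcases hd with rfl | rfl <;> exact hd')
  rw [conv, conv, e, map_mul, show QuotientGroup.mk' shiftGroup (monoZ ^ (d / 2)) = 1 from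
    (QuotientGroup.eq_one_iff _).2 (Subgroup.npow_mem_zpowers monoZ _), one_mul]

lemma quoGen_zero {g : ℕ} (hg : g < 12) : quoGen g 0 = 1 := by
  have : monoGen g 0 = 1 := by
    refine Subtype.ext (Equiv.ext fun s => Fin.ext ?_)
    rw [monoGen_val (Or.inl hg)]
    rfl
  rw [quoGen, this, QuotientGroup.mk_one]

/-- The sum, in the field with four elements. -/
def addFour (a b : Fin 4) : Fin 4 :=
  ![![0, 1, 2, 3], ![1, 0, 3, 2], ![2, 3, 0, 1], ![3, 2, 1, 0]] a b

lemma quoGen_add {r : ℕ} (hr : r < 12) (a b : Fin 4) :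
    quoGen r a * quoGen r b = quoGen r (addFour a b) := by
  have h := addChk_all hr
  simp only [addChk, Bool.and_eq_true] at h
  obtain ⟨⟨⟨h1, h2⟩, h3⟩, h4⟩ := h
  have ok : ∀ w : List (Fin 4), ∀ g ∈ w.map (fun t => (r, t)), GenOK g.1 g.2 := fun w g hg => by
    obtain ⟨t, -, rfl⟩ := List.mem_map.1 hg
    exact Or.inl hr
  have e1 := quo_eq_of_cSame (ok [1, 1]) (ok []) h1
  have e2 := quo_eq_of_cSame (ok [2, 2]) (ok []) h2
  have e3 := quo_eq_of_cSame (ok [3, 3]) (ok []) h3
  have e4 := quo_eq_of_cSame (ok [1, 2]) (ok [3]) h4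
  simp only [List.map_cons, List.map_nil, List.prod_cons, List.prod_nil, mul_one] at e1 e2 e3 e4
  set A := quoGen r 1
  set B := quoGen r 2
  set C := quoGen r 3
  have hAi : A⁻¹ = A := inv_eq_of_mul_eq_one_right e1
  have hBi : B⁻¹ = B := inv_eq_of_mul_eq_one_right e2
  have hCi : C⁻¹ = C := inv_eq_of_mul_eq_one_right e3
  have e5 : B * A = C := by rw [← hCi, ← e4, _root_.mul_inv_rev, hAi, hBi]
  have e6 : A * C = B := by rw [← e4, ← mul_assoc, e1, one_mul]
  have e7 : C * A = B := by rw [← e5, mul_assoc, e1, mul_one]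
  have e8 : B * C = A := by rw [← e5, ← mul_assoc, e2, one_mul]
  have e9 : C * B = A := by rw [← e4, mul_assoc, e2, mul_one]
  rcases fin_four_cases a with rfl | rfl | rfl | rfl <;>
    rcases fin_four_cases b with rfl | rfl | rfl | rfl
  all_goals first
    | (show quoGen r 0 * quoGen r 0 = quoGen r 0; rw [quoGen_zero hr, one_mul])
    | (rw [quoGen_zero hr, one_mul]; rfl)
    | (rw [quoGen_zero hr, mul_one]; rfl)
    | (show _ = quoGen r 0; rw [quoGen_zero hr]; assumption)
    | assumption

/-- The Weyl elements move the root groups. -/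
lemma weyl_conj {i r : ℕ} (hi : i < 2) (hr : r < 12) (hr' : tabG2.refl i r < 12) (t : Fin 4) :
    MulAut.conj (quoGen (12 + i) 1) (quoGen r t) = quoGen (tabG2.refl i r) t := by
  rw [MulAut.conj_apply, mul_inv_eq_iff_eq_mul]
  by_cases ht : t = 0
  · subst ht
    rw [quoGen_zero hr, quoGen_zero hr', mul_one, one_mul]
  have hW : GenOK (12 + i) 1 := Or.inr ⟨by omega, rfl⟩
  have h := weylChk_all hi hr
  simp only [weylChk, List.all_eq_true] at h
  have hm : (t : ℕ) ∈ [1, 2, 3] := by
    rcases fin_four_cases t with rfl | rfl | rfl | rfl <;> simp_all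
  have e := quo_eq_of_cSame (l := [(12 + i, 1), (r, t)]) (r := [(tabG2.refl i r, t), (12 + i, 1)])
    (fun g hg => by
      simp only [List.mem_cons, List.not_mem_nil, or_false] at hg
      rcases hg with rfl | rfl
      exacts [hW, Or.inl hr])
    (fun g hg => by
      simp only [List.mem_cons, List.not_mem_nil, or_false] at hg
      rcases hg with rfl | rfl
      exacts [Or.inl hr', hW]) (h _ hm)
  simpa using e

/-- A relation modulo the kernel. -/
def QuoRel (r s : ℕ) : Prop :=
  ∀ t u : Fin 4, quoGen r t * quoGen s u * quoGen r t =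
    quoGen s u * ((tabG2.commTerms r s).map fun c =>
      quoGen c.1 (parFour c.2.1 c.2.2.1 c.2.2.2 t u)).prod

lemma mulFour_zero : ∀ a : Fin 4, mulFour 0 a = 0 ∧ mulFour a 0 = 0 := by decide

lemma parity_mul (c a b d : ℤ) (i j : ℕ) (ha : a = 1 ∨ a = -1) (hb : b = 1 ∨ b = -1)
    (hd : d = 1 ∨ d = -1) : (c * a * b ^ i * d ^ j) % 2 = c % 2 := by
  have hp : ∀ (z : ℤ) (n : ℕ), z = 1 ∨ z = -1 → z ^ n = 1 ∨ z ^ n = -1 := by
    rintro z n (rfl | rfl)
    · exact Or.inl (one_pow n)
    · exact neg_one_pow_eq_or ℤ n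
  rcases ha with rfl | rfl <;> rcases hp b i hb with e | e <;> rcases hp d j hd with e' | e' <;>
    rw [e, e'] <;> omega

lemma quoRel_base : ∀ b ∈ coverG2.base, ∀ a ∈ b.2.1, QuoRel b.1 a := by
  have hn : tabG2.n = 12 := by decide +kernel
  intro b hb a ha
  have hab : b.1 < 12 ∧ a < 12 ∧ relChk b.1 a = true := by
    simp only [coverG2, List.mem_cons, List.not_mem_nil, or_false] at hb
    rcases hb with rfl | rfl <;> simp only [List.mem_cons, List.not_mem_nil, or_false] at ha <;>
      rcases ha with rfl | rfl | rfl | rfl | rfl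
    all_goals refine ⟨by norm_num, by norm_num, ?_⟩
    exacts [relChk_9_0, relChk_9_3, relChk_9_5, relChk_9_7, relChk_9_10, relChk_11_1, relChk_11_2,
      relChk_11_4, relChk_11_6, relChk_11_8]
  obtain ⟨hr, hs, hchk⟩ := hab
  set r := b.1
  intro t u
  have hterm : ∀ c ∈ tabG2.commTerms r a, c.1 < 12 := fun c hc =>
    hn ▸ certG2.commTerms_lt (hn.symm ▸ hr) (hn.symm ▸ hs) hc
  by_cases htu : t = 0 ∨ u = 0
  · have hone : ((tabG2.commTerms r a).map fun c =>
        quoGen c.1 (parFour c.2.1 c.2.2.1 c.2.2.2 t u)).prod = 1 := by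
      refine List.prod_eq_one fun g hg => ?_
      obtain ⟨c, hc, rfl⟩ := List.mem_map.1 hg
      have hlt := hterm c hc
      have hpos : c.2.2.1 ≠ 0 ∧ c.2.2.2 ≠ 0 := by
        simp only [Tab.commTerms, List.mem_filterMap, Option.map_eq_some_iff] at hc
        obtain ⟨x, hx, k, hk, rfl⟩ := hc
        simp only [List.mem_cons, List.not_mem_nil, or_false] at hx
        rcases hx with rfl | rfl | rfl | rfl | rfl | rfl | rfl <;> simp
      obtain ⟨m, hm⟩ := Nat.exists_eq_succ_of_ne_zero hpos.1
      obtain ⟨k, hk⟩ := Nat.exists_eq_succ_of_ne_zero hpos.2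
      have hp : parFour c.2.1 c.2.2.1 c.2.2.2 t u = 0 := by
        unfold parFour
        split
        · rfl
        rw [hm, hk]
        rcases htu with rfl | rfl
        · simp only [powFour, (mulFour_zero _).2, (mulFour_zero _).1]
        · simp only [powFour, (mulFour_zero _).2]
      rw [hp, quoGen_zero hlt]
    rw [hone, mul_one]
    rcases htu with rfl | rfl
    · rw [quoGen_zero hr, one_mul, mul_one]
    · rw [quoGen_zero hs, mul_one, quoGen_add hr,
        show ∀ x : Fin 4, addFour x x = 0 by decide, quoGen_zero hr]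
  · have hmem : ∀ v : Fin 4, v ≠ 0 → v ∈ ([1, 2, 3] : List (Fin 4)) := by decide
    push Not at htu
    simp only [relChk, List.all_eq_true] at hchk
    have e := quo_eq_of_cSame (l := [(r, t), (a, u), (r, t)]) (r := (a, u) :: cTerms r a t u)
      (fun g hg => by
        simp only [List.mem_cons, List.not_mem_nil, or_false] at hg
        rcases hg with rfl | rfl | rfl <;> exact Or.inl (by assumption))
      (fun g hg => by
        rcases List.mem_cons.1 hg with rfl | hg
        · exact Or.inl hs
        obtain ⟨c, hc, rfl⟩ := List.mem_map.1 hg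
        exact Or.inl (hterm c hc)) (hchk t (hmem t htu.1) u (hmem u htu.2))
    simp only [List.map_cons, List.map_nil, List.prod_cons, List.prod_nil, mul_one, cTerms,
      List.map_map] at e
    rw [mul_assoc, e]
    rfl

/-- All the relations modulo the kernel. -/
theorem quoRel_all {r s : ℕ} (hr : r < 12) (hs : s < 12) (hne : s ≠ r) (hneg : s ≠ tabG2.neg r) :
    QuoRel r s := by
  have hn : tabG2.n = 12 := by decide +kernel
  have hl : tabG2.l = 2 := by decide +kernel
  refine certG2.pair_induction (P := QuoRel) (fun i r s hi hr hs _ _ he ih t u => ?_)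
    (fun b hb a ha _ _ => quoRel_base b hb a ha) (hn.symm ▸ hr) (hn.symm ▸ hs) hne hneg
  have hi' : i < 2 := hl ▸ hi
  have hlt : ∀ q, q < tabG2.n → q < 12 ∧ tabG2.refl i q < 12 := fun q hq =>
    ⟨hn ▸ hq, hn ▸ certG2.refl_lt hi hq⟩
  have mv : ∀ q, q < tabG2.n → ∀ v,
      MulAut.conj (quoGen (12 + i) 1) (quoGen q v) = quoGen (tabG2.refl i q) v :=
    fun q hq v => weyl_conj hi' (hlt q hq).1 (hlt q hq).2 v
  have key := congrArg (MulAut.conj (quoGen (12 + i) 1)) (ih t u)
  rw [map_mul, map_mul, map_mul, mv r hr, mv s hs, map_list_prod, List.map_map] at key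
  rw [key, certG2.edge_spec hi hr he hs, List.map_map]
  congr 2
  refine List.map_congr_left fun c hc => ?_
  rw [Function.comp_apply, Function.comp_apply, mv c.1 (certG2.commTerms_lt hr hs hc)]
  congr 1
  simp only [parFour, parity_mul _ _ _ _ _ _ (tabG2.eta_cases i c.1) (tabG2.eta_cases i r)
    (tabG2.eta_cases i s)]

end CfsgLib.GTwoFour
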