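import Cfsg.Agent.Lib.Chev.StMultiplier
import Cfsg.Agent.Lib.Chev.StSmallTypes

/-!
`G₂(4)`: a perfect central extension in which one short root subgroup lifts to an abelian group
satisfies Steinberg's relations.
-/

set_option autoImplicit false
set_option maxRecDepth 100000

namespace CfsgLib.GTwoFour

open Cfsg.Lie CfsgLib.Chev Matrix
open scoped commutatorElement

/-- Over four elements a cocharacter separates two roots when exactly one exponent is a multiple
of three. -/
noncomputable def triSep (v : List ℤ) (r s : ℕ) : Bool :=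
  (decide (tabG2.cochar v r % 3 = 0) && decide (tabG2.cochar v s % 3 ≠ 0)) ||
    (decide (tabG2.cochar v s % 3 = 0) && decide (tabG2.cochar v r % 3 ≠ 0))

/-- Every representative pair but the two long ones is separated. -/
theorem pairsStG2_sep : (pairsStG2.all fun e =>
    decide (e.r = 11 ∧ e.s = 6 ∨ e.r = 11 ∧ e.s = 1) ||
      [[1, 0], [0, 1], [1, 1], [1, 2]].any fun v => triSep v e.r e.s) = true := by
  decide +kernel

/-- The further pairs that are used. -/
theorem extra_sep : ([(11, 8), (11, 9), (11, 4), (8, 4), (2, 4), (4, 1), (4, 6), (2, 6), (2, 1)].all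
    fun e : ℕ × ℕ => [[1, 0], [0, 1], [1, 1], [1, 2]].any fun v => triSep v e.1 e.2) = true := by
  decide +kernel

/-- Every root is moved at some node. -/
theorem move_four : ((List.range 12).all fun r =>
    [[1, 0], [0, 1]].any fun v => decide (tabG2.cochar v r % 3 ≠ 0)) = true := by
  decide +kernel

theorem tab_facts : tabG2.l = 2 ∧ tabG2.n = 12 ∧ tabG2.commTerms 11 6 = [] ∧
    tabG2.commTerms 11 4 = [] ∧ tabG2.commTerms 2 6 = [] ∧ tabG2.commTerms 4 1 = [] ∧
    tabG2.commTerms 4 6 = [] ∧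
    tabG2.commTerms 11 1 = [(6, 1, 1, 1)] ∧ tabG2.commTerms 2 4 = [(1, 3, 1, 1)] ∧
    tabG2.commTerms 8 4 = [(6, 3, 1, 1)] ∧
    tabG2.commTerms 11 2 = [(8, 1, 1, 1), (4, -1, 1, 2), (1, 1, 1, 3), (6, 2, 2, 3)] := by
  decide +kernel

universe u v

variable {F : Type u} [Field F] [Fintype F]

section Four

variable (hF : Fintype.card F = 4)
include hF

lemma charTwo : CharP F 2 := charP_of_card Nat.prime_two (k := 2) hF

/-- A unit of order three. -/
lemma exists_omega : ∃ w : Fˣ, (w : F) ≠ 1 ∧ (w : F) ^ (3 : ℕ) = 1 := by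
  classical
  have hcard : Fintype.card Fˣ = 3 := by rw [Fintype.card_units, hF]
  obtain ⟨w, hw⟩ := Fintype.exists_ne_of_one_lt_card (by omega : 1 < Fintype.card Fˣ) (1 : Fˣ)
  refine ⟨w, fun e => hw (Units.ext e), ?_⟩
  rw [← Units.val_pow_eq_pow_val, ← hcard, pow_card_eq_one, Units.val_one]

lemma omega_chi {w : Fˣ} (hw : (w : F) ≠ 1) (h3 : (w : F) ^ (3 : ℕ) = 1) (v : List ℤ) (r : ℕ) :
    (tabG2.cochar v r % 3 = 0 → chi tabG2 (powParam tabG2 w v) r = 1) ∧
      (tabG2.cochar v r % 3 ≠ 0 → chi tabG2 (powParam tabG2 w v) r ≠ 1) := by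
  rw [chi_powParam]
  have hm : (w : F) ^ tabG2.cochar v r = (w : F) ^ (tabG2.cochar v r % 3) := by
    conv_lhs => rw [show tabG2.cochar v r = tabG2.cochar v r % 3 + 3 * (tabG2.cochar v r / 3) by omega]
    rw [zpow_add₀ w.ne_zero, _root_.zpow_mul, show ((w : F) ^ (3 : ℤ)) = 1 by exact_mod_cast h3,
      _root_.one_zpow, mul_one]
  rw [hm]
  refine ⟨fun h0 => by rw [h0, _root_.zpow_zero], fun h1 e => hw ?_⟩
  have hlt := Int.emod_lt_of_pos (tabG2.cochar v r) (by norm_num : (0 : ℤ) < 3)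
  have hnn := Int.emod_nonneg (tabG2.cochar v r) (by norm_num : (3 : ℤ) ≠ 0)
  obtain h | h : tabG2.cochar v r % 3 = 1 ∨ tabG2.cochar v r % 3 = 2 := by omega
  · rwa [h, _root_.zpow_one] at e
  · rw [h] at e
    have e2 : (w : F) ^ (2 : ℕ) = 1 := by exact_mod_cast e
    calc (w : F) = (w : F) ^ (2 : ℕ) * w := by rw [e2, one_mul]
      _ = (w : F) ^ (3 : ℕ) := by ring
      _ = 1 := h3

/-- Torus parameters separating a checked pair. -/
lemma exists_sep_param {r s : ℕ}
    (h : ([[1, 0], [0, 1], [1, 1], [1, 2]].any fun v => triSep v r s) = true) :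
    ∃ c : Fin tabG2.l → Fˣ, chi tabG2 c r ≠ 1 ∧ chi tabG2 c s = 1 ∨
      chi tabG2 c r = 1 ∧ chi tabG2 c s ≠ 1 := by
  obtain ⟨w, hw, h3⟩ := exists_omega hF
  simp only [List.any_eq_true, triSep, Bool.or_eq_true, Bool.and_eq_true, decide_eq_true_eq] at h
  obtain ⟨v, -, ⟨a, b⟩ | ⟨a, b⟩⟩ := h
  · exact ⟨_, Or.inr ⟨(omega_chi hF hw h3 v r).1 a, (omega_chi hF hw h3 v s).2 b⟩⟩
  · exact ⟨_, Or.inl ⟨(omega_chi hF hw h3 v r).2 b, (omega_chi hF hw h3 v s).1 a⟩⟩

variable {E : Type v} [Group E] (Y : Ext chevG2 F E)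

/-- Lifts at a separated commuting pair commute. -/
lemma Z_sep {r s : ℕ} (hr : r < tabG2.n) (hs : s < tabG2.n)
    (hc : ∀ t u : F, Commute (X chevG2 r t) (X chevG2 s u))
    (h : ([[1, 0], [0, 1], [1, 1], [1, 2]].any fun v => triSep v r s) = true) : Y.Z r s := by
  obtain ⟨c, hc'⟩ := exists_sep_param hF h
  exact Y.Z_of_torus certG2 hr hs hc c hc'

/-- The two long roots at an angle of sixty degrees. -/
lemma Z_long_adj : Y.Z 11 6 := by
  have := charTwo hF
  have hz : tabG2.chkSplit 2 11 6 8 4 = true := by decide +kernel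
  exact Y.Z_of_chkSplit certG2 hz fun d hd => by
    rw [tab_facts.2.2.2.2.2.2.2.2.2.1] at hd
    simp at hd

/-- A long root subgroup lifts to an abelian group. -/
lemma Z_self_long : Y.Z 11 11 := by
  have := charTwo hF
  have hn : tabG2.n = 12 := tab_facts.2.1
  have h8 : Y.Z 11 8 := Z_sep hF Y (by omega) (by omega)
    (Ext.commute_of_chkZero (p := 2) certG2 (by decide +kernel)) (by decide +kernel)
  have h9 : Y.Z 11 9 := Z_sep hF Y (by omega) (by omega)
    (Ext.commute_of_chkZero (p := 2) certG2 (by decide +kernel)) (by decide +kernel)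
  refine Y.Z_of_gen certG2 (by omega) (S := {q | q = 8 ∨ q = 9}) ?_ ?_ fun u => ?_
  · rintro q (rfl | rfl) <;> omega
  · rintro q (rfl | rfl) <;> assumption
  · have e := certG2.X_conj (F := F) (r := 8) (s := 9) (by omega) (by omega) (by norm_num)
      (by decide +kernel) 1 (-(((3 : ℤ) : F)⁻¹ * u))
    have h3 : ((3 : ℤ) : F) ≠ 0 := fun e => by
      rw [CharP.intCast_eq_zero_iff F 2] at e; omega
    rw [show tabG2.commTerms 8 9 = [(11, 3, 1, 1)] by decide +kernel] at e
    simp only [List.map_cons, List.map_nil, List.prod_cons, List.prod_nil, mul_one, pow_one] at e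
    rw [show ((3 : ℤ) : F) * -1 * -(((3 : ℤ) : F)⁻¹ * u) = u by field_simp] at e
    rw [show X chevG2 11 u = (X chevG2 9 (-(((3 : ℤ) : F)⁻¹ * u)))⁻¹ *
      (X chevG2 8 (-1) * X chevG2 9 (-(((3 : ℤ) : F)⁻¹ * u)) * X chevG2 8 (1 : F)) by
        rw [e, inv_mul_cancel_left]]
    have m : ∀ q : ℕ, (q = 8 ∨ q = 9) → ∀ z : F,
        X chevG2 q z ∈ gen chevG2 F {q | q = 8 ∨ q = 9} :=
      fun q hq z => X_mem_gen chevG2 (show q ∈ {q | q = 8 ∨ q = 9} from hq) z
    exact mul_mem (inv_mem (m 9 (Or.inr rfl) _))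
      (mul_mem (mul_mem (m 8 (Or.inl rfl) _) (m 9 (Or.inr rfl) _)) (m 8 (Or.inl rfl) _))

/-- The relation at two long roots at an angle of a hundred and twenty degrees. -/
lemma good_long (C : Y.Canon tabG2) : C.Good 11 1 := by
  intro hsmall
  have := charTwo hF
  obtain ⟨-, hn, t116, t114, t26, t41, t46, t111, t24, t84, t112⟩ := tab_facts
  have lt : ∀ k, k < 12 → k < tabG2.n := fun k hk => by omega
  have len : (tabG2.commTerms 11 1).length = 1 := by rw [t111]; rfl
  have comm : ∀ a b, a < 12 → b < 12 → b ≠ a → b ≠ tabG2.neg a → tabG2.commTerms a b = [] →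
      ∀ t u, Commute (C.x a t) (C.x b u) := by
    intro a b ha hb h1 h2 hT t u
    have hc := hsmall a (lt a ha) b (lt b hb) h1 h2 (by rw [hT, len]; simp) t u
    rw [RootLift.terms, hT, List.map_nil, List.prod_nil, mul_one] at hc
    have hc' : C.x a (-t) * C.x b u * C.x a t = C.x b u := hc
    have hi : (C.x a t)⁻¹ = C.x a (-t) := C.lift.x_inv (lt a ha) t
    rw [← hi, mul_assoc, inv_mul_eq_iff_eq_mul] at hc'
    exact hc'.symm
  have one : ∀ a b k : ℕ, a < 12 → b < 12 → b ≠ a → b ≠ tabG2.neg a →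
      ∀ c : ℤ, tabG2.commTerms a b = [(k, c, 1, 1)] → ∀ w : List ℕ,
      tabG2.chkAround w a b = true → tabG2.chkExps a b = true →
      ([[1, 0], [0, 1], [1, 1], [1, 2]].any fun v => triSep v a b) = true →
      ∀ t u : F, C.x a (-t) * C.x b u * C.x a t = C.x b u * C.x k ((c : F) * (-t) * u) := by
    intro a b k ha hb h1 h2 c hT w hw hx hsep t u
    obtain ⟨c', hc'⟩ := exists_sep_param hF hsep
    have hg := C.good_of_kill certG2 (lt a ha) (lt b hb) h1 h2 hw hx (Y.kill_of_torus c' hc')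
    have hC := hg (fun p hp q hq n1 n2 hlt => hsmall p hp q hq n1 n2 (by
      rw [hT] at hlt; rw [len]; exact hlt)) t u
    rw [RootLift.terms, hT] at hC
    simp only [List.map_cons, List.map_nil, List.prod_cons, List.prod_nil, mul_one, pow_one] at hC
    exact hC
  have c114 := comm 11 4 (by omega) (by omega) (by norm_num) (by decide +kernel) t114
  have c41 := comm 4 1 (by omega) (by omega) (by norm_num) (by decide +kernel) t41
  have c46 := comm 4 6 (by omega) (by omega) (by norm_num) (by decide +kernel) t46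
  have c26 := comm 2 6 (by omega) (by omega) (by norm_num) (by decide +kernel) t26
  have r24 := one 2 4 1 (by omega) (by omega) (by norm_num) (by decide +kernel) 3 t24
    [0, 1, 0, 1, 0, 1] (by decide +kernel) (by decide +kernel) (by decide +kernel)
  have r84 := one 8 4 6 (by omega) (by omega) (by norm_num) (by decide +kernel) 3 t84
    [0] (by decide +kernel) (by decide +kernel) (by decide +kernel)
  have hneg : ∀ x : F, -x = x := fun x => CharTwo.neg_eq x
  have h3 : ((3 : ℤ) : F) = 1 := by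
    have h2 : (2 : F) = 0 := CharTwo.two_eq_zero
    push_cast; linear_combination h2
  simp only [hneg, h3, one_mul] at r24 r84
  have hinv : ∀ a, a < 12 → ∀ t, (C.x a t)⁻¹ = C.x a t := fun a ha t => by
    rw [show (C.x a t)⁻¹ = C.x a (-t) from C.lift.x_inv (lt a ha) t, hneg]
  -- brackets of the short root elements
  have b24 : ∀ v, ⁅C.x 4 v, C.x 2 1⁆ = C.x 1 v := fun v => by
    have e := r24 1 v
    rw [one_mul] at e
    rw [commutatorElement_def, hinv 4 (by omega), hinv 2 (by omega), mul_assoc, mul_assoc,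
      ← mul_assoc (C.x 2 1) (C.x 4 v), e, ← mul_assoc, show C.x 4 v * C.x 4 v = 1 by
        nth_rw 1 [← hinv 4 (by omega)]; exact inv_mul_cancel _, one_mul]
  have b84 : ∀ v a, ⁅C.x 4 v, C.x 8 a⁆ = C.x 6 (a * v) := fun v a => by
    have e := r84 a v
    rw [commutatorElement_def, hinv 4 (by omega), hinv 8 (by omega), mul_assoc, mul_assoc,
      ← mul_assoc (C.x 8 a) (C.x 4 v), e, ← mul_assoc, show C.x 4 v * C.x 4 v = 1 by
        nth_rw 1 [← hinv 4 (by omega)]; exact inv_mul_cancel _, one_mul]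
  intro t u
  rw [RootLift.terms, t111]
  simp only [List.map_cons, List.map_nil, List.prod_cons, List.prod_nil, mul_one, pow_one,
    hneg, Int.cast_one, one_mul]
  show C.x 11 t * C.x 1 u * C.x 11 t = C.x 1 u * C.x 6 (t * u)
  -- conjugate the bracket
  set g := C.x 11 t with hg
  have hgg : g⁻¹ = g := hinv 11 (by omega) t
  set al : F := ((1 : ℤ) : F) * (-t) ^ 1 * (1 : F) ^ 1 with hal
  set be : F := ((-1 : ℤ) : F) * (-t) ^ 1 * (1 : F) ^ 2 with hbe
  set ga : F := ((1 : ℤ) : F) * (-t) ^ 1 * (1 : F) ^ 3 with hga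
  set de : F := ((2 : ℤ) : F) * (-t) ^ 2 * (1 : F) ^ 3 with hde
  set R := C.x 4 be * (C.x 1 ga * C.x 6 de) with hR
  have hθ : Y.θ (g * C.x 2 1 * g⁻¹) = Y.θ (C.x 2 1 * C.x 8 al * R) := by
    have e := certG2.X_conj (F := F) (lt 11 (by omega)) (lt 2 (by omega)) (by norm_num)
      (by decide +kernel) t 1
    rw [t112] at e
    simp only [List.map_cons, List.map_nil, List.prod_cons, List.prod_nil, mul_one] at e
    rw [hgg, hR, map_mul, map_mul, map_mul, map_mul, map_mul, map_mul, hg, C.θ_x _ (lt 11 (by omega)),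
      C.θ_x _ (lt 2 (by omega)), C.θ_x _ (lt 8 (by omega)), C.θ_x _ (lt 4 (by omega)),
      C.θ_x _ (lt 1 (by omega)), C.θ_x _ (lt 6 (by omega)), mul_assoc (X chevG2 2 (1 : F)),
      hal, hbe, hga, hde]
    nth_rw 1 [← hneg t]
    exact e
  have hgu : g * C.x 1 u * g⁻¹ = ⁅C.x 4 u, C.x 2 1 * C.x 8 al * R⁆ := by
    rw [← b24 u, ← MulAut.conj_apply, map_commutatorElement, MulAut.conj_apply, MulAut.conj_apply]
    refine Y.comm_congr ?_ hθ
    rw [(c114 t u).eq, mul_inv_cancel_right]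
  have hR4 : Commute (C.x 4 u) R := by
    rw [hR]
    refine Commute.mul_right ?_ ((c41 u ga).mul_right (c46 u de))
    show _ = _
    rw [C.x_add 4 (lt 4 (by omega)), C.x_add 4 (lt 4 (by omega)), add_comm]
  have hk : g * C.x 1 u * g = C.x 1 u * C.x 6 (al * u) := by
    nth_rw 2 [← hgg]
    rw [hgu, ← b24 u, ← b84 u al]
    have h26 : Commute (C.x 2 1) ⁅C.x 4 u, C.x 8 al⁆ := by rw [b84]; exact c26 _ _
    have e1 : ⁅C.x 4 u, C.x 2 1 * C.x 8 al * R⁆ = ⁅C.x 4 u, C.x 2 1 * C.x 8 al⁆ := by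
      simp only [commutatorElement_def, _root_.mul_inv_rev]
      calc C.x 4 u * (C.x 2 1 * C.x 8 al * R) * (C.x 4 u)⁻¹ *
            (R⁻¹ * ((C.x 8 al)⁻¹ * (C.x 2 1)⁻¹))
          = C.x 4 u * (C.x 2 1 * C.x 8 al) * (R * (C.x 4 u)⁻¹ * R⁻¹) *
              ((C.x 8 al)⁻¹ * (C.x 2 1)⁻¹) := by group
        _ = _ := by rw [hR4.inv_left.symm.eq, mul_inv_cancel_right]
    rw [e1]
    calc ⁅C.x 4 u, C.x 2 1 * C.x 8 al⁆
        = ⁅C.x 4 u, C.x 2 1⁆ * (C.x 2 1 * ⁅C.x 4 u, C.x 8 al⁆ * (C.x 2 1)⁻¹) := by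
          simp only [commutatorElement_def]; group
      _ = _ := by rw [h26.eq, mul_inv_cancel_right]
  rw [hk, hal]
  congr 2
  simp only [hneg, Int.cast_one, one_mul, pow_one, mul_one]

/-- An extension in which a short root subgroup lifts to an abelian group satisfies the relations. -/
theorem rel_of_short (h99 : Y.Z 9 9) : ∃ L : Rel chevG2 tabG2 F E, L.π = Y.θ := by
  have hL := pairsStG2_ok.1
  refine Y.rel_of_list certG2 hL (fun e he => ?_) fun _ =>
    Y.exists_canon_of_torus certG2 (fun r hr => ?_) fun r hr =>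
      Y.Z_self_all certG2 (fun b hb => ?_) hr
  · simp only [Tab.chkList, Bool.and_eq_true, List.all_eq_true, decide_eq_true_eq] at hL
    obtain ⟨⟨b1, b2, b3, b4⟩, hpair⟩ := hL.2 e he
    have hs := List.all_eq_true.1 pairsStG2_sep e he
    simp only [Bool.or_eq_true, decide_eq_true_eq] at hs
    rcases hs with (⟨hr, hs⟩ | ⟨hr, hs⟩) | hv
    · rw [hr, hs]
      exact ⟨fun _ => Z_long_adj hF Y, fun hT => absurd tab_facts.2.2.1 hT⟩
    · rw [hr, hs]
      refine ⟨fun hc => ?_, fun _ C => good_long hF Y C⟩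
      exfalso
      have e' := certG2.X_conj (F := F) (r := 11) (s := 1) (hr ▸ b1) (hs ▸ b2) (by norm_num)
        (by decide +kernel) 1 1
      rw [tab_facts.2.2.2.2.2.2.2.1, (hc (-1) 1).eq, mul_assoc,
        certG2.X_add (hr ▸ b1), neg_add_cancel, certG2.X_zero (hr ▸ b1), mul_one] at e'
      simp only [List.map_cons, List.map_nil, List.prod_cons, List.prod_nil, mul_one, pow_one,
        Int.cast_one, one_mul] at e'
      have h6 : (6 : ℕ) < tabG2.n := by rw [tab_facts.2.1]; norm_num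
      have h1 := mul_eq_left.1 e'.symm
      rw [← certG2.X_zero (F := F) h6] at h1
      have := certG2.X_param_inj h6 h1
      simp at this
    · obtain ⟨c, hw⟩ := exists_sep_param hF hv
      refine ⟨fun hc => Y.Z_of_torus certG2 b1 b2 hc c hw, fun hT C => ?_⟩
      simp only [Tab.chkPair, Bool.or_eq_true, Bool.and_eq_true, decide_eq_true_eq] at hpair
      obtain ⟨ha, hx⟩ := hpair.resolve_left hT
      exact C.good_of_kill certG2 b1 b2 b3 b4 ha hx (Y.kill_of_torus c hw)
  · obtain ⟨w, hw, h3⟩ := exists_omega hF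
    have hm := List.all_eq_true.1 move_four r (List.mem_range.2 (tab_facts.2.1 ▸ hr))
    simp only [List.any_eq_true, decide_eq_true_eq] at hm
    obtain ⟨v, -, hv⟩ := hm
    exact ⟨_, (omega_chi hF hw h3 v r).2 hv⟩
  · simp only [coverG2, List.mem_cons, List.not_mem_nil, or_false] at hb
    rcases hb with rfl | rfl
    · exact h99
    · exact Z_self_long hF Y

end Four

end CfsgLib.GTwoFour
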